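import Mathlib
import Cfsg.Prelude.Def_FusionSystem
import Cfsg.Agent.Lead.ModelK
import Cfsg.Agent.Lead.FusionModel
import Cfsg.Agent.Lead.LocModD
import Cfsg.Agent.Helper2.CharPLocal

set_option autoImplicit false

/-!
# S5152, piece LC: local subsystems of constrained systems are constrained

`F` constrained over `S`, `U` fully normalized: every normalizer system of `U` in `F` is constrained.
Proof: a model `G` of `F`; `N_G(ι U)` has characteristic `p`, realizes the normalizer system on
`N_S(U)`, and `N_S(U)` maps onto a Sylow `p`-subgroup of it; so it is a model of the normalizer system.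
-/

namespace Cfsg.Agent.CPT

open Cfsg Cfsg.FusionSystem Cfsg.Agent.Lead

universe u

variable {Ω : Type u} [Group Ω] {S : Subgroup Ω}

/-- **LC.** The normalizer system of a fully normalized subgroup in a constrained system is
constrained. -/
theorem cpt_normalizer_isConstrained [Finite S] (p : ℕ) [Fact p.Prime] (hS : IsPGroup p S)
    (F : FusionSystem S) (hF : F.IsConstrained p) {U : Subgroup Ω} (hU : F.IsFullyNormalized U)
    (E : FusionSystem (normalizerIn S U)) (hE : F.IsNormalizerSystem U E) : E.IsConstrained p := by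
  obtain ⟨G, _, ι, hG⟩ := Cfsg.Agent.Lead.Model.exists_isModel p hS F hF
  obtain ⟨hfin, hι, ⟨T, hT⟩, hcent⟩ := hG
  have hUS : U ≤ S := hU.1
  have hNS : normalizerIn S U ≤ S := inf_le_left
  have : Finite ↥(normalizerIn S U) := Fusion.finite_of_le hNS
  have hNp : IsPGroup p ↥(normalizerIn S U) := hS.to_le hNS
  have hVp : IsPGroup p ↥((U.subgroupOf S).map ι) := by
    have h1 : IsPGroup p ↥(U.subgroupOf S) := hS.to_subgroup _
    exact h1.map ι
  have hchar : Cfsg.Agent.Helper5.HasCharP p
      ↥(Subgroup.normalizer (((U.subgroupOf S).map ι : Subgroup G) : Set G)) :=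
    Cfsg.Agent.Helper2.hasCharP_normalizer hcent _ hVp
  obtain ⟨R, hR⟩ := LocMod.normInc_range_sylow p F ι hι T hT U hU
  have hreal := LocMod.normalizer_isRealizedBy F ι hι U hUS E hE
  exact Fusion.isConstrained_of_isModel p E (LocMod.normInc ι U)
    ⟨inferInstance, hreal, ⟨R, hR⟩, hchar⟩

end Cfsg.Agent.CPT
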