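import Mathlib
import Cfsg.Prelude.Def_FusionComponents
import Cfsg.Agent.S5096
import Cfsg.Agent.S5097
import Cfsg.Agent.CPT.Local
import Cfsg.Agent.Lead.FusionConstrSub
import Cfsg.Agent.Lead.FusionNormModel
import Cfsg.Agent.Lead.FusionKNorm6
import Cfsg.Agent.COP.CentNormal
import Cfsg.Agent.PSF.ConstrUp2
import Cfsg.Agent.GFS.TopC

set_option autoImplicit false

/-!
# S5152, piece P3 (step 3): a non-constrained local forces a non-constrained centralizer

`U` fully normalized in the saturated system `F`, `N = N_F(U)` not constrained, `X ≤ U` centralized by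
`N_S(U)`, `C = C_F(X)`.  Then `C` is not constrained.

Proof.  Suppose `C` is constrained.  `U` is fully `C`-normalized (every `C`-conjugate of `U` is an
`F`-conjugate, `N_{C_S(X)}(U') ≤ N_S(U')`, and `N_{C_S(X)}(U) = N_S(U)`), so `L := N_C(U)` is constrained (LC).
Put `Q := O_p(N)` and `D := C_N(Q)`.  Every map of `D` extends to an `N`-map (hence an `F`-map) fixing
`Q ⊇ U ⊇ X` pointwise, so `D ⊆ L`; `D` is saturated (it is normal in `N`), and its group `C_{N_S(U)}(Q)` is
strongly closed in `N`, hence in `L ⊆ N`.  So `D` is constrained.  But `O_p(D) ≤ Z(D)` (TopC), so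
`C_{N_S(U)}(Q) = C_{C_{N_S(U)}(Q)}(O_p(D)) ≤ O_p(D) ≤ Z(D)`, which contradicts TopC for the non-constrained
system `N`.
-/

namespace Cfsg.Agent.CPT

open Cfsg Cfsg.FusionSystem Cfsg.Agent.Lead

variable {Ω : Type*} [Group Ω] {S : Subgroup Ω}

/-- A subgroup central in a fusion system over `S` centralizes `S`. -/
theorem cpt_isCentral_le_centralizer (F : FusionSystem S) {Q : Subgroup Ω} (hQ : F.IsCentral Q) :
    Q ≤ Subgroup.centralizer (S : Set Ω) := by
  intro x hx
  rw [Subgroup.mem_centralizer_iff]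
  intro g hg
  obtain ⟨ψ, -, hψP, hψQ⟩ := hQ.2 S (conjHom S g) (F.conj_mem le_rfl hg)
  have h1 := hψP ⟨x, hQ.1 hx⟩
  have h2 := hψQ ⟨x, hx⟩
  have e : Subgroup.inclusion (le_sup_left : S ≤ S ⊔ Q) ⟨x, hQ.1 hx⟩ =
      Subgroup.inclusion (le_sup_right : Q ≤ S ⊔ Q) ⟨x, hx⟩ := Subtype.ext rfl
  rw [e, h2] at h1
  have h3 : (x : Ω) = g * x * g⁻¹ := h1
  calc g * x = g * x * g⁻¹ * g := by group
    _ = x * g := by rw [← h3]

/-- **Step 3.** If `N_F(U)` is not constrained, `U` fully normalized, `X ≤ U` centralized by `N_S(U)`, then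
`C_F(X)` is not constrained. -/
theorem cpt_cent_not_constrained [Finite S] (p : ℕ) [Fact p.Prime] (hS : IsPGroup p S) (F : FusionSystem S)
    (hF : F.IsSaturated p) {U X : Subgroup Ω} (hU : F.IsFullyNormalized U)
    (N : FusionSystem (normalizerIn S U)) (hN : F.IsNormalizerSystem U N) (hNnc : ¬ N.IsConstrained p)
    (hXU : X ≤ U) (hXZ : normalizerIn S U ≤ centralizerIn S X)
    (C : FusionSystem (centralizerIn S X)) (hC : F.IsCentralizerSystem X C) : ¬ C.IsConstrained p := by
  intro hCc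
  have hUS : U ≤ S := hU.1
  have hNS : normalizerIn S U ≤ S := inf_le_left
  have hCS : centralizerIn S X ≤ S := inf_le_left
  have hUN : U ≤ normalizerIn S U := Fusion.le_normalizerIn hUS
  have hUC : U ≤ centralizerIn S X := hUN.trans hXZ
  have hfinN : Finite ↥(normalizerIn S U) := Fusion.finite_of_le hNS
  have hfinC : Finite ↥(centralizerIn S X) := Fusion.finite_of_le hCS
  have hpN : IsPGroup p ↥(normalizerIn S U) := hS.to_le hNS
  have hpC : IsPGroup p ↥(centralizerIn S X) := hS.to_le hCS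
  -- the two normalizers of `U` coincide
  have hNN : normalizerIn (centralizerIn S X) U = normalizerIn S U :=
    le_antisymm (inf_le_inf_right _ hCS) (le_inf hXZ inf_le_right)
  have hfinL : Finite ↥(normalizerIn (centralizerIn S X) U) :=
    Fusion.finite_of_le (inf_le_left.trans hCS)
  have hpL : IsPGroup p ↥(normalizerIn (centralizerIn S X) U) := hS.to_le (inf_le_left.trans hCS)
  have hNsat : N.IsSaturated p := Fusion.normalizerSystem_isSaturated p hS F hF U hU N hN
  -- (3a) `U` is fully normalized in `C`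
  have hUfnC : C.IsFullyNormalized U := by
    refine ⟨hUC, fun Q hQ => ?_⟩
    obtain ⟨φ, hφ, hφr⟩ := hQ
    rw [hC U] at hφ
    have hFQ : F.IsConj U Q := ⟨φ, hφ.1, hφr⟩
    have h1 := hU.2 Q hFQ
    have h2 : normalizerIn (centralizerIn S X) Q ≤ normalizerIn S Q := inf_le_inf_right _ hCS
    have hfinQ : Finite ↥(normalizerIn S Q) := Fusion.finite_of_le inf_le_left
    have h3 : Nat.card ↥(normalizerIn (centralizerIn S X) Q) ≤ Nat.card ↥(normalizerIn S Q) :=
      Subgroup.card_le_of_le h2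
    rw [hNN]
    exact h3.trans h1
  -- (3b) `L = N_C(U)` is constrained
  have hLc : (Cfsg.Agent.S5096.normSys C U hUC).IsConstrained p :=
    cpt_normalizer_isConstrained p hpC C hCc hUfnC _ (fun _ => rfl)
  -- (3c) `D = C_N(O_p(N))` is a subsystem of `L`
  have hQn : N.IsNormal N.core := Fusion.core_isNormal N
  have hUQ : U ≤ N.core := le_sSup (Fusion.normalizerSystem_isNormal F hUS N hN)
  have hXQ : X ≤ N.core := hXU.trans hUQ
  have hsub : (Cfsg.Agent.S5097.centSys N N.core hQn.1).IsSubsystemOf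
      (Cfsg.Agent.S5096.normSys C U hUC) := by
    intro P φ hφ
    obtain ⟨hφN, -, -, ψ, hψ, hψP, hψQ⟩ := hφ
    rw [hN P] at hφN
    rw [hN (P ⊔ N.core)] at hψ
    obtain ⟨hφF, hPN, hφNval, -⟩ := hφN
    obtain ⟨hψF, -, hψNval, -⟩ := hψ
    have hle1 : P ⊔ X ≤ P ⊔ N.core := sup_le_sup_left hXQ P
    have hle2 : P ⊔ U ≤ P ⊔ N.core := sup_le_sup_left hUQ P
    have hle3 : (P ⊔ U) ⊔ X ≤ P ⊔ N.core := sup_le hle2 (hXQ.trans le_sup_right)
    show φ ∈ C.normalizerHom U P
    refine ⟨?_, ?_, ?_, ψ.comp (Subgroup.inclusion hle2), ?_, ?_, ?_⟩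
    · rw [hC P]
      refine ⟨hφF, hPN.trans hXZ, fun x => hXZ (hφNval x), ψ.comp (Subgroup.inclusion hle1),
        Fusion.restrict_mem F hψF hle1, fun x => hψP x, fun x => ?_⟩
      exact hψQ ⟨x.1, hXQ x.2⟩
    · rw [hNN]; exact hPN
    · intro x; rw [hNN]; exact hφNval x
    · rw [hC (P ⊔ U)]
      refine ⟨Fusion.restrict_mem F hψF hle2, (sup_le hPN hUN).trans hXZ, fun x => hXZ (hψNval _),
        ψ.comp (Subgroup.inclusion hle3), Fusion.restrict_mem F hψF hle3, fun x => rfl, fun x => ?_⟩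
      exact hψQ ⟨x.1, hXQ x.2⟩
    · intro x; exact hψP x
    · ext y
      constructor
      · rintro ⟨z, hz, rfl⟩
        rw [SetLike.mem_coe, Subgroup.mem_subgroupOf] at hz
        have h := hψQ ⟨z.1, hUQ hz⟩
        have e : (ψ.comp (Subgroup.inclusion hle2)) z = z.1 := h
        rw [e]; exact hz
      · intro hy
        refine ⟨⟨y, (le_sup_right : U ≤ P ⊔ U) hy⟩, ?_, ?_⟩
        · rw [SetLike.mem_coe, Subgroup.mem_subgroupOf]; exact hy
        · exact hψQ ⟨y, hUQ hy⟩
  -- (3d) `D` is saturated and its group is strongly closed in `L`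
  have hDn : (Cfsg.Agent.S5097.centSys N N.core hQn.1).IsNormalIn N p :=
    Cfsg.Agent.COP.cop_centralizer_isNormalIn p hpN N hNsat hQn _ (fun _ => rfl)
  have hDsat : (Cfsg.Agent.S5097.centSys N N.core hQn.1).IsSaturated p := hDn.1.1
  have hTN : N.StronglyClosed (centralizerIn (normalizerIn S U) N.core) :=
    Cfsg.Agent.COP.cop_centralizerIn_stronglyClosed N hQn
  have hTL : (Cfsg.Agent.S5096.normSys C U hUC).StronglyClosed
      (centralizerIn (normalizerIn S U) N.core) := by
    refine ⟨?_, fun R hR φ hφ x => ?_⟩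
    · rw [hNN]; exact inf_le_left
    · apply hTN.2 R hR φ _ x
      rw [hN R]
      obtain ⟨hφC, hRN, hφval, ψ, hψ, hψR, hψU⟩ := hφ
      rw [hC R] at hφC
      rw [hC (R ⊔ U)] at hψ
      rw [hNN] at hRN
      refine ⟨hφC.1, hRN, fun x => ?_, ψ, hψ.1, hψR, hψU⟩
      have := hφval x
      rw [hNN] at this
      exact this
  have hDc : (Cfsg.Agent.S5097.centSys N N.core hQn.1).IsConstrained p :=
    Fusion.isConstrained_of_subsystem p hpL _ hLc _ hDsat hsub hTL
  -- (3e) contradiction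
  have hfinT : Finite ↥(centralizerIn (normalizerIn S U) N.core) :=
    Fusion.finite_of_le (inf_le_left.trans hNS)
  have h1 := Cfsg.Agent.PSF.psf_core_centric p _ hDc
  have h2 := Cfsg.Agent.GFS.gfs_top_cent_core_le_center p hpN N hNsat
  have h3 := cpt_isCentral_le_centralizer _
    (Fusion.center_isCentral (Cfsg.Agent.S5097.centSys N N.core hQn.1))
  apply Cfsg.Agent.GFS.gfs_top_cent_not_le_center p hpN N hNsat hNnc
  intro x hx
  apply h2
  apply h1
  refine Subgroup.mem_inf.mpr ⟨hx, ?_⟩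
  rw [Subgroup.mem_centralizer_iff]
  intro y hy
  have h4 := h3 (h2 hy)
  rw [Subgroup.mem_centralizer_iff] at h4
  exact (h4 x hx).symm

end Cfsg.Agent.CPT
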