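import Mathlib
import Cfsg.Agent.Helper4.FusTrE
import Cfsg.Agent.CPS.Hull
import Cfsg.Agent.Lead.FusionSat

/-!
# S5152 (project CPT), transport of structure, continued

Additions to `Helper4/FusTr*`: the image of a fusion system under a partial isomorphism has the images of the
normal / centric subgroups as its normal / centric subgroups, so constrained systems go to constrained systems;
and the image of the normalizer maps `N_F(U)` under a map `γ` of `F` defined on `N_S(U)` whose image is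
`N_S(γ U)` are the normalizer maps `N_F(γ U)`.
-/

set_option autoImplicit false

namespace Cfsg.Agent.CPT

open Cfsg Cfsg.FusionSystem Cfsg.Agent.Lead Cfsg.Agent.Helper4.FusTr

section img

variable {Ω : Type*} [Group Ω] {Ω' : Type*} [Group Ω'] {W : Subgroup Ω} {W' : Subgroup Ω'}
  {e : ↥W ≃* ↥W'} {S : Subgroup Ω} {F : FusionSystem S} {S' : Subgroup Ω'} {F' : FusionSystem S'}

theorem cpt_img_isNormal (hF : Img e F F') {Q : Subgroup Ω} (h : F.IsNormal Q) :
    F'.IsNormal (mapS e Q) := by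
  obtain ⟨hQS, hext⟩ := h
  have hQW : Q ≤ W := hQS.trans hF.le
  refine ⟨hF.mapS_le hQS, fun P' φ' hφ' => ?_⟩
  obtain ⟨φ, hφ, hi⟩ := hF.pull hφ' rfl
  obtain ⟨ψ, hψ, hψ1, hψ2⟩ := hext _ φ hφ
  have hP'W : P' ≤ W' := (F'.le_of_mem hφ').1.trans hF.le'
  have hsup : P' ⊔ mapS e Q = mapS e (mapS e.symm P' ⊔ Q) := by
    rw [mapS_sup e hi.le hQW, mapS_mapS_symm e hP'W]
  obtain ⟨ψ', hψ', hj⟩ := hF.push hψ hsup
  refine ⟨ψ', hψ', fun y => ?_, ?_⟩
  · obtain ⟨x, hx⟩ := exists_rel_of_eq_mapS' e hi.le hi.eq y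
    have r1 := hj.app (x := Subgroup.inclusion le_sup_left x)
      (y := Subgroup.inclusion le_sup_left y) hx
    rw [hψ1 x] at r1
    exact rel.unique_right r1 (hi.app hx)
  · ext z
    constructor
    · rintro ⟨y, hy, rfl⟩
      have hyQ : (y : Ω') ∈ mapS e Q := Subgroup.mem_subgroupOf.mp hy
      obtain ⟨x, hxQ, hxy⟩ := (mem_mapS e Q y).mp hyQ
      have r1 := hj.app (x := ⟨x, Subgroup.mem_sup_right hxQ⟩) (y := y) hxy
      have hmem : ψ ⟨x, Subgroup.mem_sup_right hxQ⟩ ∈ Q := by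
        have h0 : ψ ⟨x, Subgroup.mem_sup_right hxQ⟩ ∈ (Q.subgroupOf (mapS e.symm P' ⊔ Q)).map ψ :=
          ⟨⟨x, Subgroup.mem_sup_right hxQ⟩, Subgroup.mem_subgroupOf.mpr hxQ, rfl⟩
        rw [hψ2] at h0
        exact h0
      exact mem_mapS_of_rel e r1 hmem
    · intro hz
      obtain ⟨x, hxQ, hxz⟩ := (mem_mapS e Q z).mp hz
      have hx' : x ∈ (Q.subgroupOf (mapS e.symm P' ⊔ Q)).map ψ := by rw [hψ2]; exact hxQ
      obtain ⟨x0, hx0, hx0x⟩ := hx'
      obtain ⟨y0, hy0⟩ := exists_rel_of_eq_mapS e hj.le hj.eq x0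
      refine ⟨y0, ?_, ?_⟩
      · exact Subgroup.mem_subgroupOf.mpr (mem_mapS_of_rel e hy0 (Subgroup.mem_subgroupOf.mp hx0))
      · have r1 := hj.app hy0
        rw [hx0x] at r1
        exact rel.unique_right r1 hxz

theorem cpt_img_isConj (hF : Img e F F') {Q : Subgroup Ω} (hQ : Q ≤ S) {R' : Subgroup Ω'}
    (h : F'.IsConj (mapS e Q) R') : F.IsConj Q (mapS e.symm R') := by
  obtain ⟨φ', hφ', hr⟩ := h
  have hQW : Q ≤ W := hQ.trans hF.le
  obtain ⟨φ, hφ, hi⟩ := hF.pull hφ' (mapS_symm_mapS e hQW).symm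
  refine ⟨φ, hφ, ?_⟩
  have h1 := hi.range
  rw [hr] at h1
  rw [h1, mapS_symm_mapS e ((Fusion.range_le F hφ).trans hF.le)]

theorem cpt_img_isCentric (hF : Img e F F') {Q : Subgroup Ω} (h : F.IsCentric Q) :
    F'.IsCentric (mapS e Q) := by
  obtain ⟨hQS, hcen⟩ := h
  refine ⟨hF.mapS_le hQS, fun R' hR' => ?_⟩
  have hconj := cpt_img_isConj hF hQS hR'
  have hR'S' : R' ≤ S' := Fusion.isConj_tgt_le F' hR'
  have hR'W' : R' ≤ W' := hR'S'.trans hF.le'
  have hRS : mapS e.symm R' ≤ S := Fusion.isConj_tgt_le F hconj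
  have h1 := hcen _ hconj
  have h2 := mapS_mono e h1
  rw [mapS_centralizerIn e hF.le (hRS.trans hF.le), mapS_mapS_symm e hR'W', ← hF.eq] at h2
  exact h2

theorem cpt_img_isConstrained [Finite S] (p : ℕ) [Fact p.Prime] (hS : IsPGroup p S) (hF : Img e F F')
    (h : F.IsConstrained p) : F'.IsConstrained p := by
  obtain ⟨hsat, Q, hQn, hQc⟩ := h
  exact ⟨hF.isSaturated p hS hsat, mapS e Q, cpt_img_isNormal hF hQn, cpt_img_isCentric hF hQc⟩

end img

section norm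

variable {Ω : Type*} [Group Ω] {S : Subgroup Ω} (F : FusionSystem S)

/-- Normalizer maps go to normalizer maps under conjugation by a map `γ` of `F` on `N_S(U)` with image `N_S(U')`,
`U' = γ(U)`. -/
theorem cpt_normalizerHom_push {U U' : Subgroup Ω}
    (e : ↥(normalizerIn S U) ≃* ↥(normalizerIn S U')) {γ : ↥(normalizerIn S U) →* Ω}
    (hγ : γ ∈ F.Hom (normalizerIn S U)) (he : ∀ x : ↥(normalizerIn S U), rel e (x : Ω) (γ x))
    (hUS : U ≤ S) (hU' : U' = mapS e U) {P : Subgroup Ω} {φ : ↥P →* Ω} {P' : Subgroup Ω}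
    {φ' : ↥P' →* Ω} (hi : Ind e φ φ') (hφ : φ ∈ F.normalizerHom U P) :
    φ' ∈ F.normalizerHom U' P' := by
  obtain ⟨hφF, hPN, hφN, ψ, hψ, hψP, hψU⟩ := hφ
  have hUN : U ≤ normalizerIn S U := Fusion.le_normalizerIn hUS
  have hφ'F : φ' ∈ F.Hom P' := hom_conj_mem F e hγ he hi hφF hφN
  have hPU : P ⊔ U ≤ normalizerIn S U := sup_le hPN hUN
  -- the extension takes values in `N_S(U)`
  have hψUmem : ∀ (b : Ω) (hb : b ∈ U), ψ ⟨b, Subgroup.mem_sup_right hb⟩ ∈ U := by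
    intro b hb
    have h0 : ψ ⟨b, Subgroup.mem_sup_right hb⟩ ∈ (U.subgroupOf (P ⊔ U)).map ψ :=
      ⟨⟨b, Subgroup.mem_sup_right hb⟩, Subgroup.mem_subgroupOf.mpr hb, rfl⟩
    rw [hψU] at h0
    exact h0
  have hψN : ∀ x : ↥(P ⊔ U), ψ x ∈ normalizerIn S U := by
    intro x
    obtain ⟨a, ha, b, hb, hab⟩ := Cfsg.Agent.CPS.cps_hull_exists_mul_of_normalizes
      (A := P) (B := U) (fun a ha b hb => by
        have hn : a ∈ Subgroup.normalizer (U : Set Ω) := (Subgroup.mem_inf.mp (hPN ha)).2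
        exact (Subgroup.mem_normalizer_iff.mp hn b).mp hb) x.2
    have hx : x = Subgroup.inclusion (le_sup_left : P ≤ P ⊔ U) ⟨a, ha⟩ *
        ⟨b, Subgroup.mem_sup_right hb⟩ := Subtype.ext hab
    rw [hx, map_mul, hψP ⟨a, ha⟩]
    exact Subgroup.mul_mem _ (hφN ⟨a, ha⟩) (hUN (hψUmem b hb))
  have hsup : P' ⊔ U' = mapS e (P ⊔ U) := by
    rw [mapS_sup e hPN hUN, ← hi.eq]
    exact congrArg (fun X => P' ⊔ X) hU'
  obtain ⟨ψ', hj⟩ := Ind.exists e ψ hPU hψN hsup
  have hψ'F : ψ' ∈ F.Hom (P' ⊔ U') := hom_conj_mem F e hγ he hj hψ hψN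
  refine ⟨hφ'F, ?_, fun y => hi.map_mem_right y, ψ', hψ'F, fun y => ?_, ?_⟩
  · rw [hi.eq]
    exact mapS_le e P
  · obtain ⟨x, hx⟩ := exists_rel_of_eq_mapS' e hi.le hi.eq y
    have r1 := hj.app (x := Subgroup.inclusion le_sup_left x)
      (y := Subgroup.inclusion le_sup_left y) hx
    rw [hψP x] at r1
    exact rel.unique_right r1 (hi.app hx)
  · ext z
    constructor
    · rintro ⟨y, hy, rfl⟩
      have hyU : (y : Ω) ∈ mapS e U := le_of_eq hU' (Subgroup.mem_subgroupOf.mp hy)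
      obtain ⟨x, hxU, hxy⟩ := (mem_mapS e U y).mp hyU
      have r1 := hj.app (x := ⟨x, Subgroup.mem_sup_right hxU⟩) (y := y) hxy
      exact ge_of_eq hU' (mem_mapS_of_rel e r1 (hψUmem x hxU))
    · intro hz
      have hz' : z ∈ mapS e U := le_of_eq hU' hz
      obtain ⟨x, hxU, hxz⟩ := (mem_mapS e U z).mp hz'
      have hx' : x ∈ (U.subgroupOf (P ⊔ U)).map ψ := by rw [hψU]; exact hxU
      obtain ⟨x0, hx0, hx0x⟩ := hx'
      obtain ⟨y0, hy0⟩ := exists_rel_of_eq_mapS e hj.le hj.eq x0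
      refine ⟨y0, ?_, ?_⟩
      · apply Subgroup.mem_subgroupOf.mpr
        exact ge_of_eq hU' (mem_mapS_of_rel e hy0 (Subgroup.mem_subgroupOf.mp hx0))
      · have r1 := hj.app hy0
        rw [hx0x] at r1
        exact rel.unique_right r1 hxz

/-- The image of a normalizer system `N_F(U)` under such a `γ` is a normalizer system `N_F(U')`. -/
theorem cpt_normalizer_img {U U' : Subgroup Ω}
    (e : ↥(normalizerIn S U) ≃* ↥(normalizerIn S U')) {γ : ↥(normalizerIn S U) →* Ω}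
    (hγ : γ ∈ F.Hom (normalizerIn S U)) (he : ∀ x : ↥(normalizerIn S U), rel e (x : Ω) (γ x))
    (hUS : U ≤ S) (hU' : U' = mapS e U) (N : FusionSystem (normalizerIn S U))
    (hN : F.IsNormalizerSystem U N) (N' : FusionSystem (normalizerIn S U'))
    (hN' : F.IsNormalizerSystem U' N') : Img e N N' := by
  have hUN : U ≤ normalizerIn S U := Fusion.le_normalizerIn hUS
  have hU'S : U' ≤ S := (le_of_eq hU').trans ((mapS_le e U).trans inf_le_left)
  obtain ⟨γ', hγ', he'⟩ := exists_inv_hom F e hγ he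
  have hU : U = mapS e.symm U' :=
    ((congrArg (mapS e.symm) hU').trans (mapS_symm_mapS e hUN)).symm
  refine ⟨le_rfl, (mapS_self e).symm, fun {P P' φ φ'} _ hi => ?_⟩
  rw [hN P, hN' P']
  constructor
  · exact cpt_normalizerHom_push F e hγ he hUS hU' hi
  · exact cpt_normalizerHom_push F e.symm hγ' he' hU'S hU hi.symm

end norm

end Cfsg.Agent.CPT
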