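import Mathlib
import Cfsg.Agent.CPT.TrIso
import Cfsg.Agent.S5096
import Cfsg.Agent.Helper4.PresList
import Cfsg.Agent.Lead.FusionSat2
import Cfsg.Agent.Lead.FusionSat3
import Cfsg.Agent.Lead.FusionStrongInvC

/-!
# S5152 (project CPT), piece P1: steps 1 and 2

`cpt_exists_pair`: if `F` is not of characteristic `p`-type, some fully normalized `U` has a non-constrained
normalizer system and contains a fully normalized subgroup `X` of order `p` centralized by `N_S(U)`.
(Choose `X₀ ≤ U ∩ Z(N_S(U))` of order `p`, a fully normalized conjugate `X`, a map `ρ : N_S(X₀) → N_S(X)` of `F`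
carrying `X₀` onto `X`, and transport `U` and its normalizer system along `ρ|N_S(U)`.)
-/

set_option autoImplicit false

namespace Cfsg.Agent.CPT

open Cfsg Cfsg.FusionSystem Cfsg.Agent.Lead Cfsg.Agent.Helper4.FusTr

variable {Ω : Type*} [Group Ω] {S : Subgroup Ω}

/-- Step 1: a nontrivial subgroup `U ≤ S` contains a subgroup of order `p` centralized by `N_S(U)`. -/
theorem cpt_exists_central [Finite S] (p : ℕ) [Fact p.Prime] (hS : IsPGroup p S) {U : Subgroup Ω}
    (hUS : U ≤ S) (hU : U ≠ ⊥) :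
    ∃ X₀ : Subgroup Ω, Nat.card X₀ = p ∧ X₀ ≤ U ∧ normalizerIn S U ≤ centralizerIn S X₀ := by
  have hNS : normalizerIn S U ≤ S := inf_le_left
  have hUN : U ≤ normalizerIn S U := Fusion.le_normalizerIn hUS
  have hfinN : Finite ↥(normalizerIn S U) := Fusion.finite_of_le hNS
  have hpN : IsPGroup p ↥(normalizerIn S U) := hS.to_le hNS
  have hnorm : (U.subgroupOf (normalizerIn S U)).Normal :=
    (Subgroup.normal_subgroupOf_iff_le_normalizer hUN).2 inf_le_right
  have hne : U.subgroupOf (normalizerIn S U) ≠ ⊥ := by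
    intro h
    apply hU
    rw [eq_bot_iff]
    intro x hx
    have h1 : (⟨x, hUN hx⟩ : ↥(normalizerIn S U)) ∈ U.subgroupOf (normalizerIn S U) :=
      Subgroup.mem_subgroupOf.mpr hx
    rw [h, Subgroup.mem_bot] at h1
    exact Subgroup.mem_bot.mpr (congrArg (fun z : ↥(normalizerIn S U) => (z : Ω)) h1)
  obtain ⟨b, hbU, hb1, hbc⟩ :=
    Cfsg.Agent.Helper4.PresList.exists_central_of_normal hpN (U.subgroupOf (normalizerIn S U)) hne
  -- the subgroup `V = U ∩ C(N_S(U))` is a nontrivial `p`-group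
  set V : Subgroup Ω := U ⊓ Subgroup.centralizer ((normalizerIn S U : Subgroup Ω) : Set Ω) with hV
  have hVS : V ≤ S := inf_le_left.trans hUS
  have hfinV : Finite ↥V := Fusion.finite_of_le hVS
  have hpV : IsPGroup p ↥V := hS.to_le hVS
  have hbV : (b : Ω) ∈ V := by
    refine Subgroup.mem_inf.mpr ⟨Subgroup.mem_subgroupOf.mp hbU, ?_⟩
    rw [Subgroup.mem_centralizer_iff]
    intro g hg
    exact congrArg (fun z : ↥(normalizerIn S U) => (z : Ω)) (hbc ⟨g, hg⟩)
  have hVne : V ≠ ⊥ := by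
    intro h
    rw [h, Subgroup.mem_bot] at hbV
    exact hb1 (Subtype.ext hbV)
  have hdvd : p ∣ Nat.card ↥V := by
    obtain ⟨k, hk⟩ := hpV.exists_card_eq
    have hk0 : k ≠ 0 := by
      rintro rfl
      rw [pow_zero] at hk
      exact hVne (Subgroup.card_eq_one.mp hk)
    rw [hk]
    exact dvd_pow_self p hk0
  obtain ⟨x, hx⟩ := exists_prime_orderOf_dvd_card' p hdvd
  have hxo : orderOf (x : Ω) = p := by rw [Subgroup.orderOf_coe]; exact hx
  refine ⟨Subgroup.zpowers (x : Ω), ?_, ?_, ?_⟩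
  · rw [Nat.card_zpowers, hxo]
  · rw [Subgroup.zpowers_le]
    exact (Subgroup.mem_inf.mp x.2).1
  · intro s hs
    refine Subgroup.mem_inf.mpr ⟨hNS hs, ?_⟩
    have hle : Subgroup.zpowers (x : Ω) ≤
        Subgroup.centralizer ((normalizerIn S U : Subgroup Ω) : Set Ω) := by
      rw [Subgroup.zpowers_le]
      exact (Subgroup.mem_inf.mp x.2).2
    rw [Subgroup.mem_centralizer_iff]
    intro h hh
    exact (Subgroup.mem_centralizer_iff.mp (hle hh) s hs).symm

/-- Steps 1 and 2 for a given bad `U`. -/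
theorem cpt_transport [Finite S] (p : ℕ) [Fact p.Prime] (hS : IsPGroup p S) (F : FusionSystem S)
    (hF : F.IsSaturated p) {U : Subgroup Ω} (hU : U ≠ ⊥) (hfn : F.IsFullyNormalized U)
    (N : FusionSystem (normalizerIn S U)) (hN : F.IsNormalizerSystem U N)
    (hnc : ¬ N.IsConstrained p) :
    ∃ U' X : Subgroup Ω, F.IsFullyNormalized U' ∧
      (∃ N' : FusionSystem (normalizerIn S U'), F.IsNormalizerSystem U' N' ∧ ¬ N'.IsConstrained p) ∧
      Nat.card X = p ∧ X ≤ U' ∧ normalizerIn S U' ≤ centralizerIn S X ∧ F.IsFullyNormalized X := by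
  have hUS : U ≤ S := hfn.1
  have hNS : normalizerIn S U ≤ S := inf_le_left
  have hUN : U ≤ normalizerIn S U := Fusion.le_normalizerIn hUS
  have hfinN : Finite ↥(normalizerIn S U) := Fusion.finite_of_le hNS
  obtain ⟨X₀, hX₀card, hX₀U, hX₀c⟩ := cpt_exists_central p hS hUS hU
  have hX₀S : X₀ ≤ S := hX₀U.trans hUS
  obtain ⟨X, hconj, hXfn⟩ := Fusion.exists_isConj_fullyNormalized F hX₀S
  obtain ⟨hXfc, hXfa⟩ := Fusion.fullyCentralized_fullyAutomized_of_fullyNormalized p hS F hF hXfn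
  have hXrec := Fusion.receptive_of_fullyCentralized p hS F hF hXfc
  obtain ⟨ρ, hρ, hρN, hρX⟩ := Fusion.exists_hom_normalizerIn p hS F hXfa hXrec hconj
  have hle0 : normalizerIn S U ≤ normalizerIn S X₀ :=
    hX₀c.trans (Fusion.centralizerIn_le_normalizerIn X₀)
  have hγ : ρ.comp (Subgroup.inclusion hle0) ∈ F.Hom (normalizerIn S U) :=
    Fusion.restrict_mem F hρ hle0
  set γ : ↥(normalizerIn S U) →* Ω := ρ.comp (Subgroup.inclusion hle0) with hγdef
  have hinj : Function.Injective γ := F.injective_of_mem hγ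
  -- the image of `U`
  set U' : Subgroup Ω := (U.subgroupOf (normalizerIn S U)).map γ with hU'def
  have hmemU' : ∀ (u : Ω) (hu : u ∈ U), γ ⟨u, hUN hu⟩ ∈ U' := fun u hu =>
    ⟨⟨u, hUN hu⟩, Subgroup.mem_subgroupOf.mpr hu, rfl⟩
  have hU'S : U' ≤ S := by
    rintro _ ⟨m, -, rfl⟩
    exact Fusion.map_mem F hγ m
  have hfinU' : Finite ↥U' := Fusion.finite_of_le hU'S
  have hconjU : F.IsConj U U' := by
    refine ⟨γ.comp (Subgroup.inclusion hUN), Fusion.restrict_mem F hγ hUN, ?_⟩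
    ext z
    constructor
    · rintro ⟨u, rfl⟩
      exact hmemU' u.1 u.2
    · rintro ⟨m, hm, rfl⟩
      exact ⟨⟨m.1, Subgroup.mem_subgroupOf.mp hm⟩, rfl⟩
  have hrange_le : γ.range ≤ normalizerIn S U' := by
    rintro _ ⟨s, rfl⟩
    refine Subgroup.mem_inf.mpr ⟨Fusion.map_mem F hγ s, ?_⟩
    apply mem_normalizer_of_conj_mem_of_finite
    rintro _ ⟨m, hm, rfl⟩
    have hmU : (m : Ω) ∈ U := Subgroup.mem_subgroupOf.mp hm
    have hsn : (s : Ω) ∈ Subgroup.normalizer (U : Set Ω) := (Subgroup.mem_inf.mp s.2).2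
    have hc : (s : Ω) * (m : Ω) * (s : Ω)⁻¹ ∈ U := (Subgroup.mem_normalizer_iff.mp hsn _).mp hmU
    have e1 : γ s * γ m * (γ s)⁻¹ = γ ⟨(s : Ω) * (m : Ω) * (s : Ω)⁻¹, hUN hc⟩ := by
      rw [← map_inv, ← map_mul, ← map_mul]
      rfl
    rw [e1]
    exact hmemU' _ hc
  have hcard_range : Nat.card ↥γ.range = Nat.card ↥(normalizerIn S U) :=
    (Nat.card_congr (MonoidHom.ofInjective hinj).toEquiv).symm
  have hfinN' : Finite ↥(normalizerIn S U') := Fusion.finite_of_le inf_le_left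
  have hr : γ.range = normalizerIn S U' := by
    apply Subgroup.eq_of_le_of_card_ge hrange_le
    rw [hcard_range]
    exact hfn.2 U' hconjU
  have hcardN' : Nat.card ↥(normalizerIn S U') = Nat.card ↥(normalizerIn S U) := by
    rw [← hr, hcard_range]
  -- the isomorphism
  set e : ↥(normalizerIn S U) ≃* ↥(normalizerIn S U') := Fusion.equivOfRange γ hinj hr with hedef
  have he : ∀ x : ↥(normalizerIn S U), rel e (x : Ω) (γ x) := fun x => ⟨x.2, rfl⟩
  have hU' : U' = mapS e U := by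
    ext z
    rw [mem_mapS]
    constructor
    · rintro ⟨m, hm, rfl⟩
      exact ⟨m.1, Subgroup.mem_subgroupOf.mp hm, he m⟩
    · rintro ⟨x, hxU, hxW, hxz⟩
      rw [← hxz]
      exact hmemU' x hxU
  have hU'fn : F.IsFullyNormalized U' := by
    refine ⟨hU'S, fun Q hQ => ?_⟩
    rw [hcardN']
    exact hfn.2 Q (Fusion.isConj_trans F hconjU hQ)
  obtain ⟨N', hN'⟩ := Cfsg.Agent.S5096.result F U' hU'S
  have hN'nc : ¬ N'.IsConstrained p := by
    intro hc
    apply hnc
    have himg := cpt_normalizer_img F e hγ he hUS hU' N hN N' hN'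
    have hpN' : IsPGroup p ↥(normalizerIn S U') := hS.to_le (inf_le_left : normalizerIn S U' ≤ S)
    exact cpt_img_isConstrained p hpN' himg.symm hc
  -- the subgroup `X`
  have hXmem : ∀ z ∈ X, ∃ (x : Ω) (hx : x ∈ X₀), z = γ ⟨x, hUN (hX₀U hx)⟩ := by
    intro z hz
    rw [← hρX] at hz
    obtain ⟨m, hm, rfl⟩ := hz
    exact ⟨m.1, Subgroup.mem_subgroupOf.mp hm, rfl⟩
  refine ⟨U', X, hU'fn, ⟨N', hN', hN'nc⟩, ?_, ?_, ?_, hXfn⟩
  · rw [Cfsg.Agent.Lead.StrongInv.card_eq_of_isConj F hconj, hX₀card]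
  · intro z hz
    obtain ⟨x, hx, rfl⟩ := hXmem z hz
    exact hmemU' x (hX₀U hx)
  · intro y hy
    rw [← hr] at hy
    obtain ⟨s, rfl⟩ := hy
    refine Subgroup.mem_inf.mpr ⟨Fusion.map_mem F hγ s, ?_⟩
    rw [Subgroup.mem_centralizer_iff]
    intro z hz
    obtain ⟨x, hx, rfl⟩ := hXmem z hz
    have hsx : (x : Ω) * (s : Ω) = (s : Ω) * x :=
      Subgroup.mem_centralizer_iff.mp (Subgroup.mem_inf.mp (hX₀c s.2)).2 x hx
    rw [← map_mul, ← map_mul]
    congr 1
    exact Subtype.ext hsx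

/-- If `F` is not of characteristic `p`-type, some fully normalized `U ≠ 1` has a non-constrained normalizer system
AND contains a fully normalized subgroup `X` of order `p` centralized by `N_S(U)`. -/
theorem cpt_exists_pair [Finite S] (p : ℕ) [Fact p.Prime] (hS : IsPGroup p S) (F : FusionSystem S)
    (hF : F.IsSaturated p) (hbad : ¬ F.IsOfCharacteristicPType p) :
    ∃ U X : Subgroup Ω, F.IsFullyNormalized U ∧
      (∃ N : FusionSystem (normalizerIn S U), F.IsNormalizerSystem U N ∧ ¬ N.IsConstrained p) ∧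
      Nat.card X = p ∧ X ≤ U ∧ normalizerIn S U ≤ centralizerIn S X ∧ F.IsFullyNormalized X := by
  unfold FusionSystem.IsOfCharacteristicPType at hbad
  push Not at hbad
  obtain ⟨U, hU, hfn, N, hN, hnc⟩ := hbad
  exact cpt_transport p hS F hF hU hfn N hN hnc

end Cfsg.Agent.CPT
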